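import Cfsg.Agent.J4Rep94.C9.Data

/-!
# Certificate data
-/

set_option autoImplicit false
set_option maxRecDepth 100000

namespace Cfsg.Agent.J4Rep94.C9

open Cfsg.Agent.CosetEnum

def fv0 : ℕ := 0x71000010006e0029700002000390000a0025c000010006c002950000200096000090012a000010006a0029300002000950000b001280000100068002910000200094000090012600001000660028f00002000930000a0012400001000640028d0000200092000090026a00001000620028b00002000ea0000a001d200001000600028900002000e900009001d0000010005e0028700002000e80000b001ce000010005c0028500002000e7000090026c000010005a0028300002000fa0000a001f200001000580028100002000f9000090026e00001000560027f000020012a0000b0025200001000540027c00002001290000900052000500004e0004c0004a00048002660027b001530015500157001590015b0015d0000e002530026f001f30026d001cf001d1001d30026b0012500127001290012b0025d0007000001000bf000c1000c3000c5000c7000c9002600015e00017000af0000c0015000001001620027900002000a80000b0014e00001000440027600002000a70000900265000010014c0027400002000b10000a00255000010016000273000020012b0000a00257000010004000270000020012c000090003e0003c0003a00038000360003400032000300002e0002c0002a00028000260002400022000200001e0001c0001a0001800262001330013500137001390013b0013d0001b00256002540014a00148001460014400142001400013e000090009f00008001f30026d001cf001d1001d30026b0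000600252002500024e0024c0024a00248002460024400242002400023e0023c0023a00238002360023400232002300022e0022c0022a00228002260022400222002200021e0021c0021a00218002160021400212002100020e0020c0020a0020800206002040020200200001fe001fc001fa001f8001f6001f400124000310009200007001cf001d1001d30026b0012500127001290012b0025d0007000001000bf0000c001f2001f0001ee001ec001ea001e8001e6001e4001e2001e0001de001dc001da001d8001d6001d40019b002690012e0012c000c4000c2000c00001700060000060012500127001290012b0025d0025900006001d2001d0001ce001cc001ca001c8001c6001c4001c2001c0001be001bc001ba001b8001b6001b4001b2001b0001ae001ac001aa001a8001a6001a4001a2001a00019e0019c000b7000b9000bb000bd0025b000210003a000050012e0012c000c4000c2000c0000be0000000071000080019a00198001960019400192001900018e0018c0018a00188001860018400182001800017e0017c0017a00178001760017400172001700016e0016c0016a001680016600164001290012b0025d0001f0003900004000460000100162000010002300000001600000100042000010002100000000160000100130000010000b00000000c8000c6000c4000c2000c00025e0000500007000090000b0000a0015e0015c0015a00158001560015400152001500014e0014c0014a00148001460014400142001400013e0013c0013a00138001360013400132001300001400012000100000e0000c0001d0000600003000be000010000200001000010000000070000010012a00128001260012400122001200011e0011c0011a00118001160011400112001100010e0010c0010a0010800106001040010200100000fe000fc000fa000f8000f6000f4000f2000f0000ee000ec000ea000e8000e6000e4000e2000e0000de000dc000da000d8000d6000d4000d2000d0000ce000cc000ca00008000060000400002000000003600000000020007200001000bc000ba000b8000b6000b4000b2000b0000ae000ac000aa000a8000a6000a4000a2000a00009e0009c0009a00098000960009400092000900008e0008c0008a00088000860008400082000800007e0007c0007a0007800076000740000c0000a00008000060000400002000000002c0000000001000720000100070000010000000000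
theorem fok0 : sys.checkFacts 300 33 fv0 = true := by decide +kernel


end Cfsg.Agent.J4Rep94.C9
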